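import Mathlib

/-!
# The underlying space of a cofiltered limit with affine transition maps
-/

universe u

open CategoryTheory Limits AlgebraicGeometry Opposite

set_option backward.isDefEq.respectTransparency false

namespace Groth.Agent.LimExist

lemma eq_of_forall_mem_basicOpen {X : Scheme.{u}} [IsAffine X] {x y : X}
    (h : ∀ r : Γ(X, ⊤), x ∈ X.basicOpen r ↔ y ∈ X.basicOpen r) : x = y := by
  refine ((inseparable_iff_forall_isOpen (x := x) (y := y)).mpr ?_).eq
  intro s hs
  have key : ∀ a b : X, (∀ r : Γ(X, ⊤), a ∈ X.basicOpen r → b ∈ X.basicOpen r) →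
      a ∈ s → b ∈ s := by
    intro a b hab ha
    obtain ⟨_, ⟨_, ⟨r, rfl⟩, rfl⟩, har, hrs⟩ :=
      (isBasis_basicOpen X).exists_subset_of_mem_open ha hs
    exact hrs (hab r har)
  exact ⟨key x y fun r => (h r).1, key y x fun r => (h r).2⟩

variable {J : Type u} [SmallCategory J] [IsCofiltered J] (F : J ⥤ Scheme.{u}) (c : Cone F)

include c in
theorem exists_point_of_affine (hc : IsLimit c) (hF : ∀ j, IsAffine (F.obj j))
    (p : ∀ j, F.obj j) (hp : ∀ {j k} (v : j ⟶ k), F.map v (p j) = p k) :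
    ∃ z : c.pt, ∀ j, c.π.app j z = p j := by
  have := hF
  have haff : IsAffine c.pt := Scheme.isAffine_of_isLimit c hc
  have hmap : ∀ {i j : J} (f : i ⟶ j), IsAffineHom (F.map f) := fun f => inferInstance
  obtain ⟨hcol⟩ := nonempty_isColimit_Γ_mapCocone F c hc
  let ι : ∀ j, Γ(F.obj j, ⊤) → Γ(c.pt, ⊤) := fun j a => (c.π.app j).appTop a
  have hrep : ∀ r : Γ(c.pt, ⊤), ∃ j a, ι j a = r := fun r => by
    obtain ⟨j, a, rfl⟩ := Concrete.isColimit_exists_rep _ hcol r
    exact ⟨j.unop, a, rfl⟩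
  have hpull : ∀ {j k} (v : j ⟶ k) (a : Γ(F.obj k, ⊤)),
      p j ∈ (F.obj j).basicOpen ((F.map v).appTop a) ↔ p k ∈ (F.obj k).basicOpen a := by
    intro j k v a
    rw [← Scheme.preimage_basicOpen_top]
    change F.map v (p j) ∈ (F.obj k).basicOpen a ↔ _
    rw [hp v]
  have hι : ∀ {j k} (v : j ⟶ k) (a : Γ(F.obj k, ⊤)), ι j ((F.map v).appTop a) = ι k a := by
    intro j k v a
    change ((F.map v).appTop ≫ (c.π.app j).appTop) a = _
    rw [← Scheme.Hom.comp_appTop, c.w v]
    rfl
  have hwd : ∀ j k (a : Γ(F.obj j, ⊤)) (b : Γ(F.obj k, ⊤)), ι j a = ι k b →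
      (p j ∈ (F.obj j).basicOpen a ↔ p k ∈ (F.obj k).basicOpen b) := by
    intro j k a b hab
    obtain ⟨l, f, g, he⟩ := Concrete.isColimit_exists_of_rep_eq
      (F := F.op ⋙ Scheme.Γ) (i := op j) (j := op k) hcol a b hab
    rw [← hpull f.unop, ← hpull g.unop]
    exact iff_of_eq (congrArg (fun x => p l.unop ∈ (F.obj l.unop).basicOpen x) he)
  let S : Set Γ(c.pt, ⊤) := {r | ∀ j a, ι j a = r → p j ∉ (F.obj j).basicOpen a}
  have hmem : ∀ j a, ι j a ∈ S ↔ p j ∉ (F.obj j).basicOpen a :=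
    fun j a => ⟨fun h => h j a rfl, fun h k b hb hb' => h ((hwd k j b a hb).1 hb')⟩
  have hcommon : ∀ r s : Γ(c.pt, ⊤), ∃ j a b, ι j a = r ∧ ι j b = s := by
    intro r s
    obtain ⟨j, a, rfl⟩ := hrep r
    obtain ⟨k, b, rfl⟩ := hrep s
    exact ⟨IsCofiltered.min j k, (F.map (IsCofiltered.minToLeft j k)).appTop a,
      (F.map (IsCofiltered.minToRight j k)).appTop b, hι _ a, hι _ b⟩
  let P : Ideal Γ(c.pt, ⊤) :=
    { carrier := S
      add_mem' := by
        intro r s hr hs
        obtain ⟨j, a, b, rfl, rfl⟩ := hcommon r s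
        rw [hmem] at hr hs
        rw [show ι j a + ι j b = ι j (a + b) from (map_add (c.π.app j).appTop.hom a b).symm, hmem]
        exact fun h => ((F.obj j).basicOpen_add_le a b h).elim hr hs
      zero_mem' := by
        intro j a ha h
        rw [hwd j j a 0 (ha.trans (map_zero (c.π.app j).appTop.hom).symm),
          Scheme.basicOpen_zero] at h
        exact h
      smul_mem' := by
        intro r s hs
        obtain ⟨j, a, b, rfl, rfl⟩ := hcommon r s
        rw [hmem] at hs
        rw [smul_eq_mul, show ι j a * ι j b = ι j (a * b) from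
          (map_mul (c.π.app j).appTop.hom a b).symm, hmem, Scheme.basicOpen_mul]
        exact fun h => hs h.2 }
  have hP : P.IsPrime := by
    refine ⟨?_, ?_⟩
    · rw [Ne, Ideal.eq_top_iff_one]
      intro h
      obtain ⟨j⟩ := IsCofiltered.nonempty (C := J)
      refine h j 1 (map_one (c.π.app j).appTop.hom) ?_
      rw [Scheme.basicOpen_one]
      trivial
    · intro r s h
      obtain ⟨j, a, b, rfl, rfl⟩ := hcommon r s
      change ι j a * ι j b ∈ S at h
      change ι j a ∈ S ∨ ι j b ∈ S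
      rw [show ι j a * ι j b = ι j (a * b) from (map_mul (c.π.app j).appTop.hom a b).symm,
        hmem, Scheme.basicOpen_mul] at h
      rw [hmem, hmem]
      by_contra hh
      push Not at hh
      exact h ⟨hh.1, hh.2⟩
  let q : Spec Γ(c.pt, ⊤) := ⟨P, hP⟩
  refine ⟨c.pt.isoSpec.inv q, fun j => eq_of_forall_mem_basicOpen fun a => ?_⟩
  have hz : c.pt.isoSpec.inv q ∈ c.pt.basicOpen (ι j a) ↔ ι j a ∉ P := by
    rw [← Scheme.map_PrimeSpectrum_basicOpen_of_affine]
    change c.pt.isoSpec.hom (c.pt.isoSpec.inv q) ∈ PrimeSpectrum.basicOpen (ι j a) ↔ _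
    rw [← Scheme.Hom.comp_apply, Iso.inv_hom_id]
    rfl
  change c.pt.isoSpec.inv q ∈ (c.π.app j) ⁻¹ᵁ (F.obj j).basicOpen a ↔ _
  rw [Scheme.preimage_basicOpen_top]
  refine hz.trans ?_
  change ι j a ∉ S ↔ _
  rw [hmem, not_not]

variable [∀ (i j : J) (f : i ⟶ j), IsAffineHom (F.map f)]

include c in
theorem exists_point (hc : IsLimit c) (p : ∀ j, F.obj j)
    (hp : ∀ {j k} (v : j ⟶ k), F.map v (p j) = p k) :
    ∃ z : c.pt, ∀ j, c.π.app j z = p j := by
  obtain ⟨i⟩ := IsCofiltered.nonempty (C := J)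
  obtain ⟨_, ⟨U, hU : IsAffineOpen U, rfl⟩, hpU, -⟩ :=
    (F.obj i).isBasis_affineOpens.exists_subset_of_mem_open (Set.mem_univ (p i)) isOpen_univ
  let p' : ∀ j : Over i, (opensDiagram F i U).obj j := fun j =>
    ⟨p j.left, show F.map j.hom (p j.left) ∈ U by rw [hp j.hom]; exact hpU⟩
  obtain ⟨z, hz⟩ := exists_point_of_affine (opensDiagram F i U) (opensCone F c i U)
    (isLimitOpensCone F c hc i U) (fun j => hU.preimage (F.map j.hom)) p' (by
      intro j k v
      apply Subtype.ext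
      refine Eq.trans ?_ (hp v.left)
      change ((F.map v.left).resLE _ _ _ ≫ Scheme.Opens.ι _) (p' j) = _
      rw [Scheme.Hom.resLE_comp_ι]
      rfl)
  refine ⟨z.1, fun j => ?_⟩
  let l : Over i := Over.mk (IsCofiltered.minToRight j i)
  have h1 : c.π.app l.left z.1 = p l.left := by
    have := congrArg Subtype.val (hz l)
    refine Eq.trans ?_ this
    change (Scheme.Opens.ι _ ≫ c.π.app l.left) z = ((c.π.app l.left).resLE _ _ _ ≫ Scheme.Opens.ι _) z
    rw [Scheme.Hom.resLE_comp_ι]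
  rw [← c.w (IsCofiltered.minToLeft j i), Scheme.Hom.comp_apply]
  exact (congrArg _ h1).trans (hp _)

include c in
theorem point_ext (hc : IsLimit c) {x y : c.pt} (h : ∀ j, c.π.app j x = c.π.app j y) :
    x = y := by
  refine ((inseparable_iff_forall_isOpen (x := x) (y := y)).mpr ?_).eq
  intro s hs
  have key : ∀ a b : c.pt, (∀ j, c.π.app j a = c.π.app j b) → a ∈ s → b ∈ s := by
    intro a b hab ha
    obtain ⟨_, ⟨_, ⟨j, V, -, rfl⟩, rfl⟩, hav, hvs⟩ :=
      (isBasis_preimage_isAffineOpen F c hc).exists_subset_of_mem_open ha hs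
    refine hvs ?_
    change c.π.app j b ∈ V
    rw [← hab j]
    exact hav
  exact ⟨key x y h, key y x fun j => (h j).symm⟩

/-- The forgetful functor to topological spaces preserves the limit. -/
theorem forgetToTop_isLimit (hc : IsLimit c) :
    Nonempty (IsLimit (Scheme.forgetToTop.mapCone c)) := by
  have hset : Nonempty (IsLimit ((forget TopCat.{u}).mapCone (Scheme.forgetToTop.mapCone c))) := by
    rw [Types.isLimit_iff]
    intro s hs
    obtain ⟨z, hz⟩ := exists_point F c hc s (fun v => hs v)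
    exact ⟨z, hz, fun y hy => point_ext F c hc fun j => (hy j).trans (hz j).symm⟩
  obtain ⟨hset⟩ := hset
  refine (TopCat.nonempty_isLimit_iff_eq_induced _ hset).mpr ?_
  refine le_antisymm (le_iInf fun j => (c.π.app j).continuous.le_induced) ?_
  have hb : TopologicalSpace.IsTopologicalBasis (SetLike.coe '' _ : Set (Set c.pt)) :=
    isBasis_preimage_isAffineOpen F c hc
  refine le_trans (le_generateFrom ?_) hb.eq_generateFrom.symm.le
  rintro _ ⟨_, ⟨j, V, -, rfl⟩, rfl⟩
  exact (TopologicalSpace.le_def.mp (iInf_le _ j)) _ ⟨_, V.2, rfl⟩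

end Groth.Agent.LimExist
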