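import Mathlib

/-!
# Existence of cofiltered limits with affine transition maps

The limit is glued from the limits of the affine diagrams over the affine opens of one stage.
-/

universe u

open CategoryTheory Limits AlgebraicGeometry

set_option backward.isDefEq.respectTransparency false

namespace Groth.Agent.LimExist

/-- A diagram of affine schemes has a limit. -/
theorem hasLimit_of_isAffine {J : Type u} [SmallCategory J] (F : J ⥤ Scheme.{u})
    (h : ∀ j, IsAffine (F.obj j)) : HasLimit F := by
  have := h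
  let G : J ⥤ Scheme.{u} := (F.op ⋙ Scheme.Γ).rightOp ⋙ Scheme.Spec
  let e : F ≅ G := NatIso.ofComponents (fun j => (F.obj j).isoSpec)
    (fun {i j} f => (Scheme.isoSpec_hom_naturality (F.map f)).symm)
  exact hasLimit_of_iso e.symm

/-- Pullback squares are stable under limits. -/
theorem isPullback_of_isLimit {J : Type u} [SmallCategory J] {F G : J ⥤ Scheme.{u}} (η : F ⟶ G)
    {cF : Cone F} (hF : IsLimit cF) {cG : Cone G} (hG : IsLimit cG)
    (φ : cF.pt ⟶ cG.pt) (hφ : ∀ j, φ ≫ cG.π.app j = cF.π.app j ≫ η.app j)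
    {U V : Scheme.{u}} (a : U ⟶ V) (f : ∀ j, F.obj j ⟶ U) (g : ∀ j, G.obj j ⟶ V)
    (hf : ∀ {j k} (v : j ⟶ k), F.map v ≫ f k = f j)
    (hg : ∀ {j k} (v : j ⟶ k), G.map v ≫ g k = g j)
    (hsq : ∀ j, IsPullback (f j) (η.app j) a (g j))
    (o : J) (tE : ∀ j, j ⟶ o) :
    IsPullback (cF.π.app o ≫ f o) φ a (cG.π.app o ≫ g o) := by
  have hfo : ∀ j, cF.π.app j ≫ f j = cF.π.app o ≫ f o := fun j => by
    rw [← cF.w (tE j), Category.assoc, hf]
  have hgo : ∀ j, cG.π.app j ≫ g j = cG.π.app o ≫ g o := fun j => by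
    rw [← cG.w (tE j), Category.assoc, hg]
  have hw : (cF.π.app o ≫ f o) ≫ a = φ ≫ cG.π.app o ≫ g o := by
    rw [Category.assoc, (hsq o).w, reassoc_of% (hφ o)]
  refine ⟨⟨hw⟩, ⟨PullbackCone.IsLimit.mk hw ?_ ?_ ?_ ?_⟩⟩
  · intro s
    refine hF.lift
      { pt := s.pt
        π :=
          { app := fun j =>
              (hsq j).lift s.fst (s.snd ≫ cG.π.app j) (s.condition.trans (((congrArg (s.snd ≫ ·) (hgo j)).symm).trans (Category.assoc _ _ _).symm))
            naturality := ?_ } }
    intro j k v
    refine (hsq k).hom_ext ?_ ?_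
    · simp [hf]
    · simp [← η.naturality_assoc, η.naturality]
  · intro s
    rw [hF.fac_assoc]
    simp
  · intro s
    refine hG.hom_ext fun j => ?_
    rw [Category.assoc, hφ, hF.fac_assoc]
    simp
  · intro s m h1 h2
    refine hF.hom_ext fun j => ?_
    rw [hF.fac]
    refine (hsq j).hom_ext ?_ ?_
    · simp [hfo, h1]
    · simp [← hφ, reassoc_of% h2]

variable {I : Type u} [SmallCategory I] (D : I ⥤ Scheme.{u}) (i : I)

/-- The structure maps of the restricted diagram. -/
noncomputable def str (U : (D.obj i).Opens) (j : Over i) :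
    (opensDiagram D i U).obj j ⟶ U.toScheme :=
  (D.map j.hom).resLE _ _ le_rfl

@[reassoc (attr := simp)]
lemma str_ι (U : (D.obj i).Opens) (j : Over i) :
    str D i U j ≫ U.ι = (D.map j.hom ⁻¹ᵁ U).ι ≫ D.map j.hom :=
  Scheme.Hom.resLE_comp_ι _ _

lemma map_str (U : (D.obj i).Opens) {j k : Over i} (v : j ⟶ k) :
    (opensDiagram D i U).map v ≫ str D i U k = str D i U j := by
  rw [← cancel_mono U.ι, Category.assoc, str_ι, str_ι]
  change (D.map v.left).resLE _ _ _ ≫ _ = _
  rw [Scheme.Hom.resLE_comp_ι_assoc, ← Functor.map_comp, Over.w v]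

/-- The inclusion of restricted diagrams. -/
noncomputable def ofLE {U V : (D.obj i).Opens} (h : U ≤ V) :
    opensDiagram D i U ⟶ opensDiagram D i V where
  app j := Scheme.homOfLE _ (Scheme.Hom.preimage_mono (D.map j.hom) h)
  naturality j k v := by
    simp [opensDiagram]

@[reassoc (attr := simp)]
lemma ofLE_app_ι {U V : (D.obj i).Opens} (h : U ≤ V) (j : Over i) :
    (ofLE D i h).app j ≫ (D.map j.hom ⁻¹ᵁ V).ι = (D.map j.hom ⁻¹ᵁ U).ι :=
  Scheme.homOfLE_ι _ (Scheme.Hom.preimage_mono (D.map j.hom) h)

instance (U : (D.obj i).Opens) (j : Over i) : Mono ((opensDiagramι D i U).app j) :=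
  inferInstanceAs (Mono (D.map j.hom ⁻¹ᵁ U).ι)

lemma isPullback_resLE {X Y : Scheme.{u}} (f : X ⟶ Y) {U V : Y.Opens} (h : U ≤ V) :
    IsPullback (f.resLE U (f ⁻¹ᵁ U) le_rfl) (X.homOfLE (Scheme.Hom.preimage_mono f h))
      (Y.homOfLE h) (f.resLE V (f ⁻¹ᵁ V) le_rfl) := by
  refine IsOpenImmersion.isPullback _ _ _ _ (by simp) ?_
  rw [Scheme.opensRange_homOfLE, Scheme.opensRange_homOfLE, ← Scheme.Hom.comp_preimage,
    Scheme.Hom.resLE_comp_ι, Scheme.Hom.comp_preimage]

lemma isPullback_str {U V : (D.obj i).Opens} (h : U ≤ V) (j : Over i) :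
    IsPullback (str D i U j) ((ofLE D i h).app j) ((D.obj i).homOfLE h) (str D i V j) :=
  isPullback_resLE (D.map j.hom) h

variable [∀ (i j : I) (f : i ⟶ j), IsAffineHom (D.map f)]

instance hasLimit_opens (U : (D.obj i).affineOpens) : HasLimit (opensDiagram D i U.1) :=
  hasLimit_of_isAffine _ fun j => U.2.preimage (D.map j.hom)

/-- The limits over the affine opens. -/
noncomputable def affFunctor : (D.obj i).affineOpens ⥤ Scheme.{u} where
  obj U := limit (opensDiagram D i U.1)
  map {U V} h := limMap (ofLE D i (leOfHom h))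
  map_id U := by
    refine limit.hom_ext fun j => ?_
    simp [ofLE]
    exact Category.comp_id _
  map_comp {U V W} h h' := by
    refine limit.hom_ext fun j => ?_
    simp [ofLE]

lemma limit_π_str (U : (D.obj i).affineOpens) (j : Over i) :
    limit.π (opensDiagram D i U.1) j ≫ str D i U.1 j =
      limit.π (opensDiagram D i U.1) (Over.mk (𝟙 i)) ≫ str D i U.1 (Over.mk (𝟙 i)) := by
  rw [← limit.w (opensDiagram D i U.1) (Over.homMk j.hom : j ⟶ Over.mk (𝟙 i)), Category.assoc,
    map_str]

/-- The gluing datum. -/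
noncomputable def glueData :
    Scheme.Cover.RelativeGluingData (D.obj i).directedAffineCover where
  functor := affFunctor D i
  natTrans :=
    { app := fun U => limit.π (opensDiagram D i U.1) (Over.mk (𝟙 i)) ≫ str D i U.1 (Over.mk (𝟙 i))
      naturality := fun (U V : (D.obj i).affineOpens) h => by
        change limMap (ofLE D i (leOfHom h)) ≫ _ = _ ≫ (D.obj i).homOfLE (leOfHom h)
        rw [← cancel_mono V.1.ι]
        simp
        erw [ofLE_app_ι]
        rfl }
  equifibered := fun (U V : (D.obj i).affineOpens) h => by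
    have := isPullback_of_isLimit (ofLE D i (leOfHom h)) (limit.isLimit _) (limit.isLimit _)
      (limMap (ofLE D i (leOfHom h))) (fun j => by simp) ((D.obj i).homOfLE (leOfHom h))
      (str D i U.1) (str D i V.1) (fun v => map_str D i U.1 v) (fun v => map_str D i V.1 v)
      (isPullback_str D i (leOfHom h)) (Over.mk (𝟙 i)) (fun j => Over.homMk j.hom)
    exact this.flip

/-- The candidate limit cone over the diagram restricted to `Over i`. -/
noncomputable def cone : Cone (Over.forget i ⋙ D) where
  pt := (glueData D i).glued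
  π :=
    { app := fun j => colimit.desc (glueData D i).functor
        { pt := D.obj j.left
          ι :=
            { app := fun U => limit.π (opensDiagram D i U.1) j ≫ (opensDiagramι D i U.1).app j
              naturality := fun (U V : (D.obj i).affineOpens) h => by
                change limMap (ofLE D i (leOfHom h)) ≫ _ = _ ≫ 𝟙 _
                simp } }
      naturality := fun j k v => by
        change 𝟙 _ ≫ _ = _
        rw [Category.id_comp]
        refine colimit.hom_ext fun U => ?_
        simp only [colimit.ι_desc, colimit.ι_desc_assoc, Category.assoc]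
        rw [← limit.w (opensDiagram D i U.1) v, Category.assoc, (opensDiagramι D i U.1).naturality] }

lemma ι_cone_π (U : (D.obj i).affineOpens) (j : Over i) :
    colimit.ι (glueData D i).functor U ≫ (cone D i).π.app j =
      limit.π (opensDiagram D i U.1) j ≫ (opensDiagramι D i U.1).app j :=
  colimit.ι_desc _ _

lemma toBase_eq : (glueData D i).toBase = (cone D i).π.app (Over.mk (𝟙 i)) := by
  refine colimit.hom_ext fun U => ?_
  rw [Scheme.Cover.RelativeGluingData.ι_toBase, ι_cone_π]
  change (limit.π _ _ ≫ str D i U.1 _) ≫ U.1.ι = _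
  simp

lemma cone_hom_ext {T : Scheme.{u}} (h1 h2 : T ⟶ (cone D i).pt)
    (h : ∀ j, h1 ≫ (cone D i).π.app j = h2 ≫ (cone D i).π.app j) : h1 = h2 := by
  have hb : h1 ≫ (glueData D i).toBase = h2 ≫ (glueData D i).toBase := by
    rw [toBase_eq]
    exact h _
  refine Scheme.Cover.hom_ext
    ((D.obj i).directedAffineCover.pullback₁ (h1 ≫ (glueData D i).toBase)) _ _ ?_
  intro (U : (D.obj i).affineOpens)
  let w := pullback.fst (h1 ≫ (glueData D i).toBase) U.1.ι
  let b := pullback.snd (h1 ≫ (glueData D i).toBase) U.1.ι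
  change w ≫ h1 = w ≫ h2
  have hP := (glueData D i).isPullback_natTrans_ι_toBase U
  have c1 : b ≫ U.1.ι = (w ≫ h1) ≫ (glueData D i).toBase := by
    rw [Category.assoc]; exact pullback.condition.symm
  have c2 : b ≫ U.1.ι = (w ≫ h2) ≫ (glueData D i).toBase :=
    c1.trans (((Category.assoc _ _ _).trans (congrArg (w ≫ ·) hb)).trans
      (Category.assoc _ _ _).symm)
  have e1 := hP.lift_snd b (w ≫ h1) c1
  have e2 := hP.lift_snd b (w ≫ h2) c2
  suffices hP.lift b (w ≫ h1) c1 = hP.lift b (w ≫ h2) c2 by rw [← e1, ← e2, this]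
  refine limit.hom_ext (F := opensDiagram D i U.1) fun j => ?_
  rw [← cancel_mono ((opensDiagramι D i U.1).app j)]
  simp only [Category.assoc, ← ι_cone_π]
  rw [reassoc_of% e1, reassoc_of% e2, h j]

theorem exists_lift (s : Cone (Over.forget i ⋙ D)) :
    ∃ l : s.pt ⟶ (cone D i).pt, ∀ j, l ≫ (cone D i).π.app j = s.π.app j := by
  let sb : s.pt ⟶ D.obj i := s.π.app (Over.mk (𝟙 i))
  let 𝒲 := (D.obj i).directedAffineCover.pullback₁ sb
  have hs : ∀ j : Over i, s.π.app j ≫ D.map j.hom = sb := fun j =>
    s.w (Over.homMk j.hom : j ⟶ Over.mk (𝟙 i))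
  have key : ∀ U : (D.obj i).affineOpens, ∃ l : pullback sb U.1.ι ⟶ (cone D i).pt,
      ∀ j, l ≫ (cone D i).π.app j = pullback.fst sb U.1.ι ≫ s.π.app j := by
    intro U
    have hr : ∀ j : Over i, Set.range (pullback.fst sb U.1.ι ≫ s.π.app j) ⊆
        Set.range (D.map j.hom ⁻¹ᵁ U.1).ι := by
      rintro j _ ⟨x, rfl⟩
      refine (Scheme.Opens.range_ι _).ge ?_
      change D.map j.hom ((pullback.fst sb U.1.ι ≫ s.π.app j) x) ∈ U.1
      erw [← Scheme.Hom.comp_apply, Category.assoc, hs j, pullback.condition,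
        Scheme.Hom.comp_apply]
      exact ((pullback.snd sb U.1.ι) x).2
    let c : Cone (opensDiagram D i U.1) :=
      { pt := pullback sb U.1.ι
        π :=
          { app := fun j => IsOpenImmersion.lift (D.map j.hom ⁻¹ᵁ U.1).ι _ (hr j)
            naturality := fun j k v => by
              change 𝟙 _ ≫ _ = _
              rw [Category.id_comp, ← cancel_mono ((opensDiagramι D i U.1).app k),
                Category.assoc, (opensDiagramι D i U.1).naturality]
              simp only [opensDiagramι_app, IsOpenImmersion.lift_fac, Category.assoc,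
                IsOpenImmersion.lift_fac_assoc]
              rw [← s.w v] } }
    refine ⟨limit.lift _ c ≫ colimit.ι (glueData D i).functor U, fun j => ?_⟩
    erw [Category.assoc, ι_cone_π, limit.lift_π_assoc]
    exact IsOpenImmersion.lift_fac _ _ _
  choose l hl using key
  let L := Scheme.Cover.glueMorphisms 𝒲 l fun (U V : (D.obj i).affineOpens) => by
    refine cone_hom_ext D i _ _ fun j => ?_
    change (pullback.fst (pullback.fst sb U.1.ι) (pullback.fst sb V.1.ι) ≫ l U) ≫ _ =
      (pullback.snd (pullback.fst sb U.1.ι) (pullback.fst sb V.1.ι) ≫ l V) ≫ _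
    rw [Category.assoc, hl, Category.assoc, hl, pullback.condition_assoc]
  refine ⟨L, fun j => Scheme.Cover.hom_ext 𝒲 _ _ fun (U : (D.obj i).affineOpens) => ?_⟩
  rw [← Category.assoc, Scheme.Cover.ι_glueMorphisms, hl U j]
  rfl

/-- The cone over `Over i` is limiting. -/
noncomputable def isLimit : IsLimit (cone D i) where
  lift s := (exists_lift D i s).choose
  fac s j := (exists_lift D i s).choose_spec j
  uniq s m hm := cone_hom_ext D i _ _ fun j => by rw [(exists_lift D i s).choose_spec j, hm j]

/-- Cofiltered limits with affine transition maps exist. -/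
theorem hasLimit [IsCofiltered I] : HasLimit D := by
  obtain ⟨i⟩ := IsCofiltered.nonempty (C := I)
  have : HasLimit (Over.forget i ⋙ D) := ⟨⟨⟨cone D i, isLimit D i⟩⟩⟩
  exact Functor.Initial.hasLimit_of_comp (Over.forget i)

end Groth.Agent.LimExist
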